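import Groth.Agent.ResProp.EF.K907.Fun
import Groth.Agent.ResProp.EF.K911.Mon

/-!
# The coaction of a cartesian presheaf of modules (seam M1 between `Comod A` and K907)

`R = A⟨0⟩`, `Γ = A⟨1⟩`, `Algebra R Γ` through `pr`, `t = lst`.  `cE M : Γ ⊗ M⟨0⟩ ≃ M⟨1⟩`; `rho : vst A ⟶ vst A ⋙ Fn t`,
`rho x = cE⁻¹ (M(lst) x)`; multiplicative (`rho_tensor`), invariants (`rho_eq_iff`), submodules (`mem_baseChange_iff`).
-/

set_option autoImplicit false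
set_option linter.dupNamespace false
set_option linter.style.haveILetI false

open CategoryTheory CategoryTheory.Limits Opposite TensorProduct MonoidalCategory

noncomputable section

namespace Groth.Agent.ResProp.EF.K777

open EF56 K784.BC K784.PM K741.RP Groth.Agent.ResProp.EF.K907

universe u

variable {A : NFᵒᵖ ⥤ CommRingCat.{u}}

/-- `Γ = A⟨1⟩` as an algebra over `R = A⟨0⟩` through the projection `pr` -/
@[reducible] def algS (A : NFᵒᵖ ⥤ CommRingCat.{u}) : Algebra (A.obj (op ⟨0⟩)) (A.obj (op ⟨1⟩)) :=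
  (rg A (pr ⟨0⟩)).toAlgebra

attribute [local instance] algS

/-- the second map `R → Γ` -/
abbrev tt (A : NFᵒᵖ ⥤ CommRingCat.{u}) : A.obj (op ⟨0⟩) →+* A.obj (op ⟨1⟩) := rg A (lst ⟨0⟩)

theorem flat_algS (hA : GR A) : Module.Flat (A.obj (op ⟨0⟩)) (A.obj (op ⟨1⟩)) := (hA.ff ⟨0⟩).fl

theorem algebraMap_algS (r : A.obj (op ⟨0⟩)) : algebraMap (A.obj (op ⟨0⟩)) (A.obj (op ⟨1⟩)) r = rg A (pr ⟨0⟩) r := rfl

section PM

variable (M : PM.{u} A) (hM : M.Cart)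

include hM in
theorem exists_cP : ∃ e : ((A.obj (op ⟨1⟩)) ⊗[A.obj (op ⟨0⟩)] M.obj ⟨0⟩) ≃ₗ[A.obj (op ⟨1⟩)] M.obj ⟨1⟩,
    ∀ m, e (1 ⊗ₜ m) = M.map (pr ⟨0⟩) m :=
  (isBC_mk (rg A (pr ⟨0⟩)) (M.obj ⟨0⟩)).exists_equiv (hM (pr ⟨0⟩))

/-- `Γ ⊗ M⟨0⟩ ≃ M⟨1⟩` -/
def cP : ((A.obj (op ⟨1⟩)) ⊗[A.obj (op ⟨0⟩)] M.obj ⟨0⟩) ≃ₗ[A.obj (op ⟨1⟩)] M.obj ⟨1⟩ := (exists_cP M hM).choose

@[simp] theorem cP_one (m : M.obj ⟨0⟩) : cP M hM (1 ⊗ₜ m) = M.map (pr ⟨0⟩) m := (exists_cP M hM).choose_spec m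

@[simp] theorem cP_tmul (a : A.obj (op ⟨1⟩)) (m : M.obj ⟨0⟩) : cP M hM (a ⊗ₜ m) = a • M.map (pr ⟨0⟩) m := by
  rw [← cP_one M hM, ← map_smul, TensorProduct.smul_tmul', smul_eq_mul, mul_one]

/-- the coaction of the cartesian presheaf `M`, an additive map -/
def rhoP : M.obj ⟨0⟩ →+ (A.obj (op ⟨1⟩)) ⊗[A.obj (op ⟨0⟩)] M.obj ⟨0⟩ :=
  (cP M hM).symm.toLinearMap.toAddMonoidHom.comp (M.map (lst ⟨0⟩))

theorem cP_rhoP (x : M.obj ⟨0⟩) : cP M hM (rhoP M hM x) = M.map (lst ⟨0⟩) x :=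
  (cP M hM).apply_symm_apply _

theorem rhoP_smul (r : A.obj (op ⟨0⟩)) (x : M.obj ⟨0⟩) : rhoP M hM (r • x) = tt A r • rhoP M hM x := by
  apply (cP M hM).injective
  rw [(cP M hM).map_smul, cP_rhoP, cP_rhoP, M.map_smul]

/-- (ii) invariants -/
theorem rhoP_eq_iff (x : M.obj ⟨0⟩) : rhoP M hM x = 1 ⊗ₜ x ↔ M.map (lst ⟨0⟩) x = M.map (pr ⟨0⟩) x := by
  rw [← cP_rhoP M hM, ← cP_one M hM]
  exact ⟨fun h => by rw [h], fun h => (cP M hM).injective h⟩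

/-- (iii) submodules: `y ∈ Γ ⊗ S` iff `c y` is in the `Γ`-span of the pull-back of `S` -/
theorem mem_baseChange_iff (S : Submodule (A.obj (op ⟨0⟩)) (M.obj ⟨0⟩))
    (y : (A.obj (op ⟨1⟩)) ⊗[A.obj (op ⟨0⟩)] M.obj ⟨0⟩) :
    y ∈ S.baseChange (A.obj (op ⟨1⟩)) ↔
      cP M hM y ∈ Submodule.span (A.obj (op ⟨1⟩)) (M.map (pr ⟨0⟩) '' (S : Set (M.obj ⟨0⟩))) := by
  have h : Submodule.span (A.obj (op ⟨1⟩)) (M.map (pr ⟨0⟩) '' (S : Set (M.obj ⟨0⟩))) =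
      (S.baseChange (A.obj (op ⟨1⟩))).map (cP M hM).toLinearMap := by
    rw [Submodule.baseChange_eq_span, Submodule.map_span]
    congr 1
    ext z
    constructor
    · rintro ⟨x, hx, rfl⟩
      exact ⟨1 ⊗ₜ x, ⟨x, hx, rfl⟩, cP_one M hM x⟩
    · rintro ⟨_, ⟨x, hx, rfl⟩, rfl⟩
      exact ⟨x, hx, (cP_one M hM x).symm⟩
  rw [h, Submodule.mem_map]
  constructor
  · intro hy
    exact ⟨y, hy, rfl⟩
  · rintro ⟨z, hz, e⟩
    rwa [← (cP M hM).injective e]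

end PM

section Comod

/-- `Γ ⊗ M⟨0⟩ ≃ M⟨1⟩` -/
def cE (M : Comod A) : ((A.obj (op ⟨1⟩)) ⊗[A.obj (op ⟨0⟩)] ((vst A).obj M)) ≃ₗ[A.obj (op ⟨1⟩)] (toPM M.obj).obj ⟨1⟩ :=
  cP (toPM M.obj) M.property

theorem cE_one (M : Comod A) (m : (vst A).obj M) :
    cE M (1 ⊗ₜ[A.obj (op ⟨0⟩)] m) = (toPM M.obj).map (pr ⟨0⟩) m :=
  cP_one (toPM M.obj) M.property m

theorem cE_tmul (M : Comod A) (a : A.obj (op ⟨1⟩)) (m : (vst A).obj M) :
    cE M (a ⊗ₜ[A.obj (op ⟨0⟩)] m) = a • (toPM M.obj).map (pr ⟨0⟩) m :=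
  cP_tmul (toPM M.obj) M.property a m

/-- the value at `⟨a⟩` of a morphism -/
def hmap {M N : Comod A} (f : M ⟶ N) (a : NF) : (toPM M.obj).obj a →ₗ[A.obj (op a)] (toPM N.obj).obj a :=
  (f.hom.app (op a)).hom

theorem hmap_zero_eq {M N : Comod A} (f : M ⟶ N) (x : (vst A).obj M) : hmap f ⟨0⟩ x = ((vst A).map f).hom x := rfl

theorem hmap_nat {M N : Comod A} (f : M ⟶ N) {a b : NF} (φ : a ⟶ b) (x : (toPM M.obj).obj b) :
    hmap f a ((toPM M.obj).map φ x) = (toPM N.obj).map φ (hmap f b x) :=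
  PresheafOfModules.naturality_apply f.hom φ.op x

theorem cE_nat {M N : Comod A} (f : M ⟶ N) (y : (A.obj (op ⟨1⟩)) ⊗[A.obj (op ⟨0⟩)] ((vst A).obj M)) :
    cE N (((vst A).map f).hom.baseChange (A.obj (op ⟨1⟩)) y) = hmap f ⟨1⟩ (cE M y) := by
  induction y using TensorProduct.induction_on with
  | zero => simp
  | add y z hy hz => rw [map_add, map_add, hy, hz, map_add, map_add]
  | tmul a m =>
    rw [LinearMap.baseChange_tmul, cE_tmul, cE_tmul, map_smul, hmap_nat]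
    rfl

/-- the coaction -/
def rhoApp (M : Comod A) : (vst A).obj M ⟶ (Fn (Γ := A.obj (op ⟨1⟩)) (tt A)).obj ((vst A).obj M) :=
  ModuleCat.ofHom (Y := (Fn (Γ := A.obj (op ⟨1⟩)) (tt A)).obj ((vst A).obj M))
    { toFun := fun x => rhoP (toPM M.obj) M.property x
      map_add' := fun x y => map_add (rhoP (toPM M.obj) M.property) x y
      map_smul' := fun r x => rhoP_smul (toPM M.obj) M.property r x }

theorem rhoApp_apply (M : Comod A) (x : (vst A).obj M) :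
    (rhoApp M).hom x = rhoP (toPM M.obj) M.property x := rfl

theorem cE_rhoApp (M : Comod A) (x : (vst A).obj M) :
    cE M (show (A.obj (op ⟨1⟩)) ⊗[A.obj (op ⟨0⟩)] ((vst A).obj M) from (rhoApp M).hom x) = (toPM M.obj).map (lst ⟨0⟩) x :=
  cP_rhoP (toPM M.obj) M.property x

variable (A) in
/-- **the coaction**, natural in the comodule -/
def rho : vst A ⟶ vst A ⋙ Fn (Γ := A.obj (op ⟨1⟩)) (tt A) where
  app M := rhoApp M
  naturality M N f := by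
    apply ModuleCat.hom_ext
    apply LinearMap.ext
    intro x
    change rhoP (toPM N.obj) N.property (((vst A).map f).hom x) =
      ((vst A).map f).hom.baseChange (A.obj (op ⟨1⟩)) (rhoP (toPM M.obj) M.property x)
    apply (cE N).injective
    rw [cE_nat]
    refine (cP_rhoP (toPM N.obj) N.property _).trans ?_
    refine Eq.trans ?_ (congrArg (hmap f ⟨1⟩) (cP_rhoP (toPM M.obj) M.property x)).symm
    exact (hmap_nat f (lst ⟨0⟩) x).symm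

theorem rho_app (M : Comod A) (x : (vst A).obj M) : ((rho A).app M).hom x = rhoP (toPM M.obj) M.property x := rfl

/-- (ii) invariants -/
theorem rho_eq_iff (M : Comod A) (x : (vst A).obj M) :
    rhoP (toPM M.obj) M.property x = 1 ⊗ₜ[A.obj (op ⟨0⟩)] x ↔
      (toPM M.obj).map (lst ⟨0⟩) x = (toPM M.obj).map (pr ⟨0⟩) x :=
  rhoP_eq_iff (toPM M.obj) M.property x

theorem map_tmul (M N : Comod A) {a b : NF} (φ : a ⟶ b) (m : (toPM M.obj).obj b) (n : (toPM N.obj).obj b) :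
    (toPM (M ⊗ N).obj).map φ (m ⊗ₜ[A.obj (op b)] n) =
      ((toPM M.obj).map φ m) ⊗ₜ[A.obj (op a)] ((toPM N.obj).map φ n) := rfl

/-- `Γ ⊗ (M⟨0⟩ ⊗ N⟨0⟩) → M⟨1⟩ ⊗ N⟨1⟩` -/
def cET (M N : Comod A) : ((A.obj (op ⟨1⟩)) ⊗[A.obj (op ⟨0⟩)] (((vst A).obj M) ⊗[A.obj (op ⟨0⟩)] ((vst A).obj N)))
    ≃ₗ[A.obj (op ⟨1⟩)] (((toPM M.obj).obj ⟨1⟩) ⊗[A.obj (op ⟨1⟩)] ((toPM N.obj).obj ⟨1⟩)) := cE (M ⊗ N)

theorem cET_tmul (M N : Comod A) (a : A.obj (op ⟨1⟩)) (m : (vst A).obj M) (n : (vst A).obj N) :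
    cET M N (a ⊗ₜ[A.obj (op ⟨0⟩)] (m ⊗ₜ[A.obj (op ⟨0⟩)] n)) =
      a • (((toPM M.obj).map (pr ⟨0⟩) m) ⊗ₜ[A.obj (op ⟨1⟩)] ((toPM N.obj).map (pr ⟨0⟩) n)) :=
  cE_tmul (M ⊗ N) a (m ⊗ₜ[A.obj (op ⟨0⟩)] n)

theorem cET_mul₀ (M N : Comod A) (y : (A.obj (op ⟨1⟩)) ⊗[A.obj (op ⟨0⟩)] ((vst A).obj M))
    (z : (A.obj (op ⟨1⟩)) ⊗[A.obj (op ⟨0⟩)] ((vst A).obj N)) :
    cET M N (mul₀ (Γ := A.obj (op ⟨1⟩)) ((vst A).obj M) ((vst A).obj N) y z) =
      (cE M y) ⊗ₜ[A.obj (op ⟨1⟩)] (cE N z) := by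
  induction y using TensorProduct.induction_on with
  | zero => rw [map_zero, LinearMap.zero_apply, map_zero, map_zero, TensorProduct.zero_tmul]
  | add y y' hy hy' => rw [map_add, LinearMap.add_apply, map_add, hy, hy', map_add, TensorProduct.add_tmul]
  | tmul a m =>
    induction z using TensorProduct.induction_on with
    | zero => rw [map_zero, map_zero, map_zero, TensorProduct.tmul_zero]
    | add z z' hz hz' => rw [map_add, map_add, hz, hz', map_add, TensorProduct.tmul_add]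
    | tmul b n => rw [mul₀_tmul, cE_tmul M, cE_tmul N, cET_tmul, TensorProduct.smul_tmul_smul]

/-- (i) the coaction is multiplicative -/
theorem rho_tensor (M N : Comod A) :
    (rho A).app (M ⊗ N) = ((rho A).app M ⊗ₘ (rho A).app N) ≫ μ (tt A) ((vst A).obj M) ((vst A).obj N) := by
  refine ModuleCat.MonoidalCategory.tensor_ext (M₁ := (vst A).obj M) (M₂ := (vst A).obj N) (fun m n => ?_)
  change rhoP (toPM (M ⊗ N).obj) (M ⊗ N).property (m ⊗ₜ[A.obj (op ⟨0⟩)] n) =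
    mul₀ (Γ := A.obj (op ⟨1⟩)) ((vst A).obj M) ((vst A).obj N) (rhoP (toPM M.obj) M.property m)
      (rhoP (toPM N.obj) N.property n)
  apply (cET M N).injective
  refine (cP_rhoP (toPM (M ⊗ N).obj) (M ⊗ N).property _).trans ?_
  refine Eq.trans (map_tmul M N (lst ⟨0⟩) m n) ?_
  refine Eq.trans ?_ (cET_mul₀ M N _ _).symm
  have h1 : cE M (rhoP (toPM M.obj) M.property m) = (toPM M.obj).map (lst ⟨0⟩) m :=
    cP_rhoP (toPM M.obj) M.property m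
  have h2 : cE N (rhoP (toPM N.obj) N.property n) = (toPM N.obj).map (lst ⟨0⟩) n :=
    cP_rhoP (toPM N.obj) N.property n
  rw [h1, h2]

/-- (iii) submodules -/
theorem mem_baseChange_comod (M : Comod A) (S : Submodule (A.obj (op ⟨0⟩)) ((vst A).obj M))
    (y : (A.obj (op ⟨1⟩)) ⊗[A.obj (op ⟨0⟩)] ((vst A).obj M)) :
    y ∈ S.baseChange (A.obj (op ⟨1⟩)) ↔
      cE M y ∈ Submodule.span (A.obj (op ⟨1⟩)) ((toPM M.obj).map (pr ⟨0⟩) '' (S : Set ((vst A).obj M))) :=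
  mem_baseChange_iff (toPM M.obj) M.property S y

end Comod

end Groth.Agent.ResProp.EF.K777
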