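import Groth.Agent.ResProp.EF.K907.Fun
import Mathlib.Algebra.Homology.ShortComplex.PreservesHomology
import Mathlib.Algebra.Homology.ShortComplex.ModuleCat

/-!
# The homology of a complex of small objects is small

`Fn t` is exact (`Γ` flat).  For a complex `X` with operators `act p : X ⟶ X` and a coaction `ρ : X ⟶ Fn X`:
`rhoH : H^j X ⟶ Fn (H^j X)`, and `sml_homology` : if `X.X j` is small, so is `H^j X`.
-/

set_option autoImplicit false

universe w u

open CategoryTheory CategoryTheory.Limits HomologicalComplex TensorProduct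

noncomputable section

namespace Groth.Agent.ResProp.EF.K777

open Groth.Agent.ResProp.EF.K907

variable {R Γ : Type u} [CommRing R] [CommRing Γ] [Algebra R Γ] (t : R →+* Γ)

theorem exact_Fn [Module.Flat R Γ] (S : ShortComplex (ModuleCat.{u} R)) (hS : S.Exact) :
    (S.map (Fn (Γ := Γ) t)).Exact := by
  rw [ShortComplex.ShortExact.moduleCat_exact_iff_function_exact] at hS ⊢
  exact Module.Flat.lTensor_exact Γ hS

instance preservesHomology_Fn [Module.Flat R Γ] : (Fn (Γ := Γ) t).PreservesHomology :=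
  Functor.preservesHomology_of_map_exact _ (exact_Fn t)

section

variable {C D : Type*} [Category* C] [Category* D] [Preadditive C] [Preadditive D] (S : ShortComplex C)
  (F : C ⥤ D) [F.PreservesZeroMorphisms] [S.HasHomology] [F.PreservesLeftHomologyOf S] [(S.map F).HasHomology]

theorem homologyπ_mapHomologyIso :
    (S.map F).homologyπ ≫ (S.mapHomologyIso F).hom = (S.mapCyclesIso F).hom ≫ F.map S.homologyπ := by
  rw [S.leftHomologyData.mapHomologyIso_eq F, S.leftHomologyData.mapCyclesIso_eq F]
  simp only [Iso.trans_hom, Functor.mapIso_hom, Iso.symm_hom, Category.assoc]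
  rw [ShortComplex.LeftHomologyData.homologyπ_comp_homologyIso_hom_assoc]
  congr 1
  have h1 : (S.leftHomologyData.map F).π = F.map S.leftHomologyData.π := rfl
  rw [h1]
  refine Eq.trans (F.map_comp _ _).symm (Eq.trans (congrArg F.map ?_) (F.map_comp _ _))
  exact S.leftHomologyData.π_comp_homologyIso_inv

end

variable {P : Type*}

section Cx

variable {ι : Type*} {c : ComplexShape ι} (X : HomologicalComplex (ModuleCat.{u} R) c)
  (act : P → (X ⟶ X)) (ρ : X ⟶ ((Fn (Γ := Γ) t).mapHomologicalComplex c).obj X) (j : ι)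

/-- the operators on homology. -/
def actH (p : P) : Module.End R (X.homology j) := (homologyMap (act p) j).hom

/-- `H^j (Fn X) ≅ Fn (H^j X)`. -/
def homFn [Module.Flat R Γ] :
    (((Fn (Γ := Γ) t).mapHomologicalComplex c).obj X).homology j ≅ (Fn (Γ := Γ) t).obj (X.homology j) :=
  (X.sc j).mapHomologyIso (Fn t)

/-- the coaction on homology, as a morphism. -/
def rhoH [Module.Flat R Γ] : X.homology j ⟶ (Fn (Γ := Γ) t).obj (X.homology j) :=
  homologyMap ρ j ≫ (homFn t X j).hom

/-- the coaction on homology, as an additive map. -/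
def rhoHA [Module.Flat R Γ] : X.homology j →+ Γ ⊗[R] (X.homology j) := (rhoH t X ρ j).hom.toAddMonoidHom

/-- the coaction on cycles, as a morphism. -/
def rhoZ [Module.Flat R Γ] : X.cycles j ⟶ (Fn (Γ := Γ) t).obj (X.cycles j) :=
  cyclesMap ρ j ≫ ((X.sc j).mapCyclesIso (Fn t)).hom

theorem rhoZ_iCycles [Module.Flat R Γ] :
    rhoZ t X ρ j ≫ (Fn (Γ := Γ) t).map (X.iCycles j) = X.iCycles j ≫ ρ.f j := by
  rw [rhoZ, Category.assoc]
  refine (congrArg (fun z => cyclesMap ρ j ≫ z)
    (ShortComplex.mapCyclesIso_hom_iCycles (X.sc j) (Fn (Γ := Γ) t))).trans ?_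
  exact cyclesMap_i ρ j

theorem homologyπ_rhoH [Module.Flat R Γ] :
    X.homologyπ j ≫ rhoH t X ρ j = rhoZ t X ρ j ≫ (Fn (Γ := Γ) t).map (X.homologyπ j) := by
  rw [rhoH, rhoZ, Category.assoc]
  refine Eq.trans (Category.assoc _ _ _).symm ?_
  rw [homologyπ_naturality, Category.assoc]
  exact congrArg (fun z => cyclesMap ρ j ≫ z) (homologyπ_mapHomologyIso (X.sc j) (Fn (Γ := Γ) t))

variable {I : Set P} {e : P → List (Γ × P)}

/-- the homology of a complex with small term is small. -/
theorem sml_homology [Module.Flat R Γ] (n : ℕ) (S : ℕ → Submodule R (X.X j))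
    (h : Sml I e (fun p => ((act p).f j).hom) (ρ.f j).hom.toAddMonoidHom n S) :
    ∃ S' : ℕ → Submodule R (X.homology j), Sml I e (actH X act j) (rhoHA t X ρ j) n S' := by
  have h1 := Sml.comap (act := fun p => (cyclesMap (act p) j).hom) (ρ := (rhoZ t X ρ j).hom.toAddMonoidHom) h
    (X.iCycles j).hom ((ModuleCat.mono_iff_injective _).1 inferInstance)
    (fun p x => by
      have := congrArg (fun f => f.hom x) (cyclesMap_i (act p) j)
      exact this)
    (fun x => by
      have := congrArg (fun f => f.hom x) (rhoZ_iCycles t X ρ j)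
      exact this)
  refine ⟨_, Sml.map h1 (X.homologyπ j).hom ((ModuleCat.epi_iff_surjective _).1 inferInstance) (fun p x => ?_)
    (fun x => ?_)⟩
  · have := congrArg (fun f => f.hom x) (homologyπ_naturality (act p) j)
    exact this.symm
  · have := congrArg (fun f => f.hom x) (homologyπ_rhoH t X ρ j)
    exact this.symm

end Cx

section Nat

variable {ι : Type*} {c : ComplexShape ι} {X Y : HomologicalComplex (ModuleCat.{u} R) c}
  (ρX : X ⟶ ((Fn (Γ := Γ) t).mapHomologicalComplex c).obj X)
  (ρY : Y ⟶ ((Fn (Γ := Γ) t).mapHomologicalComplex c).obj Y) (j : ι)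

/-- naturality of the coaction on homology in the complex. -/
theorem rhoH_nat [Module.Flat R Γ] (f : X ⟶ Y) (hf : ρX ≫ ((Fn (Γ := Γ) t).mapHomologicalComplex c).map f = f ≫ ρY) :
    rhoH t X ρX j ≫ (Fn (Γ := Γ) t).map (homologyMap f j) = homologyMap f j ≫ rhoH t Y ρY j := by
  have h1 : homologyMap (((Fn (Γ := Γ) t).mapHomologicalComplex c).map f) j ≫ (homFn t Y j).hom =
      (homFn t X j).hom ≫ (Fn (Γ := Γ) t).map (homologyMap f j) :=
    ShortComplex.mapHomologyIso_hom_naturality ((shortComplexFunctor _ c j).map f) (Fn (Γ := Γ) t)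
  rw [rhoH, rhoH, Category.assoc, ← h1, ← Category.assoc, ← homologyMap_comp, hf, homologyMap_comp, Category.assoc]

theorem rhoHA_nat [Module.Flat R Γ] (f : X ⟶ Y) (hf : ρX ≫ ((Fn (Γ := Γ) t).mapHomologicalComplex c).map f = f ≫ ρY)
    (x : X.homology j) :
    (homologyMap f j).hom.baseChange Γ (rhoHA t X ρX j x) = rhoHA t Y ρY j ((homologyMap f j).hom x) :=
  congrArg (fun g => g.hom x) (rhoH_nat t ρX ρY j f hf)

end Nat

section Homotopy

variable {ι : Type*} {c : ComplexShape ι} {X Y : HomologicalComplex (ModuleCat.{u} R) c}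
  (ρX : X ⟶ ((Fn (Γ := Γ) t).mapHomologicalComplex c).obj X)
  (ρY : Y ⟶ ((Fn (Γ := Γ) t).mapHomologicalComplex c).obj Y) (j : ι)

/-- naturality of the coaction on homology for maps compatible up to homotopy. -/
theorem rhoH_nat_homotopy [Module.Flat R Γ] (f : X ⟶ Y)
    (hf : Homotopy (ρX ≫ ((Fn (Γ := Γ) t).mapHomologicalComplex c).map f) (f ≫ ρY)) :
    rhoH t X ρX j ≫ (Fn (Γ := Γ) t).map (homologyMap f j) = homologyMap f j ≫ rhoH t Y ρY j := by
  have h1 : homologyMap (((Fn (Γ := Γ) t).mapHomologicalComplex c).map f) j ≫ (homFn t Y j).hom =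
      (homFn t X j).hom ≫ (Fn (Γ := Γ) t).map (homologyMap f j) :=
    ShortComplex.mapHomologyIso_hom_naturality ((shortComplexFunctor _ c j).map f) (Fn (Γ := Γ) t)
  rw [rhoH, rhoH, Category.assoc, ← h1, ← Category.assoc, ← homologyMap_comp, hf.homologyMap_eq, homologyMap_comp,
    Category.assoc]

end Homotopy

end Groth.Agent.ResProp.EF.K777
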