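import Groth.Agent.ResProp.EF.Arch
import Groth.Agent.ResProp.EF.K777.Model
import Mathlib.Data.Int.Interval

/-!
# `Arch.Small` objects are small in the sense of K907 (seam M2)

`Sml.ext` : the middle term of an exact sequence of small objects is small.
`exists_lift` : a choice of `e : P → List (Γ × P)` with `D(lst) (π p) = ∑ γ • D(pr) (π p')`.
`exists_sml` : `Small c ι π X → ∃ n S, Sml (ker π) e (P-action) (coaction) n S`.
-/

set_option autoImplicit false
set_option linter.dupNamespace false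
set_option linter.style.haveILetI false

open CategoryTheory CategoryTheory.Limits Opposite TensorProduct

noncomputable section

namespace Groth.Agent.ResProp.EF.K777

open EF56 K784.BC K784.PM K741.RP Groth.Agent.ResProp.EF.K907

universe u

/-! ## Extensions of small objects -/

section Ext

variable {R : Type*} [CommRing R] {Γ : Type*} [CommRing Γ] [Algebra R Γ] [Module.Flat R Γ]
  {P : Type*} {I : Set P} {e : P → List (Γ × P)}
variable {M' M M'' : Type*} [AddCommGroup M'] [Module R M'] [AddCommGroup M] [Module R M]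
  [AddCommGroup M''] [Module R M'']

omit [Module.Flat R Γ] in
theorem sml_mono {act : P → Module.End R M} {ρ : M →+ Γ ⊗[R] M} {n : ℕ} {S : ℕ → Submodule R M}
    (h : Sml I e act ρ n S) {m : ℕ} (hnm : n ≤ m) : Sml I e act ρ m S :=
  { h with top := top_unique (h.top ▸ h.mono hnm) }

omit [Module.Flat R Γ] in
theorem sml_of_subsingleton [Subsingleton M] (act : P → Module.End R M) (ρ : M →+ Γ ⊗[R] M) :
    Sml I e act ρ 0 (fun _ => ⊤) where
  bot := Subsingleton.elim _ _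
  top := rfl
  mono := fun _ _ _ => le_rfl
  act_mem := fun _ _ _ _ => trivial
  ρ_mem := fun _ _ _ => by rw [Submodule.baseChange_top]; trivial
  ker_mem := fun _ _ _ _ _ => trivial
  semi := fun _ _ _ _ => by rw [Submodule.baseChange_top]; trivial

/-- the middle term of an exact sequence of small objects is small -/
theorem sml_ext {act' : P → Module.End R M'} {ρ' : M' →+ Γ ⊗[R] M'} {n' : ℕ} {S' : ℕ → Submodule R M'}
    (h' : Sml I e act' ρ' n' S')
    {act'' : P → Module.End R M''} {ρ'' : M'' →+ Γ ⊗[R] M''} {n'' : ℕ} {S'' : ℕ → Submodule R M''}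
    (h'' : Sml I e act'' ρ'' n'' S'')
    (act : P → Module.End R M) (ρ : M →+ Γ ⊗[R] M) (f : M' →ₗ[R] M) (g : M →ₗ[R] M'')
    (hfg : Function.Exact f g)
    (fact : ∀ p x, f (act' p x) = act p (f x)) (fρ : ∀ x, f.baseChange Γ (ρ' x) = ρ (f x))
    (gact : ∀ p x, g (act p x) = act'' p (g x)) (gρ : ∀ x, g.baseChange Γ (ρ x) = ρ'' (g x)) :
    Sml I e act ρ (n' + n'') (fun i => if i < n' then (S' i).map f else (S'' (i - n')).comap g) := by
  set S : ℕ → Submodule R M := fun i => if i < n' then (S' i).map f else (S'' (i - n')).comap g with hS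
  have hker : LinearMap.range f = LinearMap.ker g := (LinearMap.exact_iff.1 hfg).symm
  have hle : ∀ i, i ≤ n' → S i = (S' i).map f := by
    intro i hi
    rcases lt_or_eq_of_le hi with h | h
    · simp only [hS, if_pos h]
    · subst h
      simp only [hS, lt_irrefl, if_false, Nat.sub_self]
      rw [h''.bot, h'.top, Submodule.map_top, hker]
      rfl
  have hge : ∀ i, n' ≤ i → S i = (S'' (i - n')).comap g := by
    intro i hi
    simp only [hS, if_neg (not_lt.2 hi)]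
  have hge' : ∀ i, n' ≤ i → S (i + 1) = (S'' (i - n' + 1)).comap g := by
    intro i hi
    rw [hge (i + 1) (by omega), Nat.sub_add_comm hi]
  refine ⟨?_, ?_, ?_, ?_, ?_, ?_, ?_⟩
  · rw [hle 0 (Nat.zero_le _), h'.bot, Submodule.map_bot]
  · rw [hge _ (Nat.le_add_right _ _), Nat.add_sub_cancel_left, h''.top]
    rfl
  · refine monotone_nat_of_le_succ fun i => ?_
    rcases lt_or_ge i n' with hi | hi
    · rw [hle i hi.le, hle (i + 1) hi]
      exact Submodule.map_mono (h'.mono (Nat.le_succ i))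
    · rw [hge i hi, hge' i hi]
      exact Submodule.comap_mono (h''.mono (Nat.le_succ _))
  · intro i p x hx
    rcases lt_or_ge i n' with hi | hi
    · rw [hle i hi.le] at hx ⊢
      obtain ⟨y, hy, rfl⟩ := hx
      rw [← fact]
      exact Submodule.mem_map_of_mem (h'.act_mem i p _ hy)
    · rw [hge i hi] at hx ⊢
      rw [Submodule.mem_comap, gact]
      exact h''.act_mem _ p _ hx
  · intro i x hx
    rcases lt_or_ge i n' with hi | hi
    · rw [hle i hi.le] at hx ⊢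
      obtain ⟨y, hy, rfl⟩ := hx
      rw [← fρ]
      exact baseChange_mem_map Γ f _ (h'.ρ_mem i _ hy)
    · rw [hge i hi] at hx ⊢
      rw [mem_baseChange_comap, gρ]
      exact h''.ρ_mem _ _ hx
  · intro i p x hp hx
    rcases lt_or_ge i n' with hi | hi
    · rw [hle (i + 1) hi] at hx
      rw [hle i hi.le]
      obtain ⟨y, hy, rfl⟩ := hx
      rw [← fact]
      exact Submodule.mem_map_of_mem (h'.ker_mem i p _ hp hy)
    · rw [hge' i hi] at hx
      rw [hge i hi, Submodule.mem_comap, gact]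
      exact h''.ker_mem _ p _ hp hx
  · intro i p x hx
    rcases lt_or_ge i n' with hi | hi
    · rw [hle (i + 1) hi] at hx
      rw [hle i hi.le]
      obtain ⟨y, hy, rfl⟩ := hx
      rw [← fact, ← fρ, ← fρ, ← actL_comm act' act f fact, ← map_sub]
      exact baseChange_mem_map Γ f _ (h'.semi i p _ hy)
    · rw [hge' i hi] at hx
      rw [hge i hi, mem_baseChange_comap, map_sub, gρ, gact, actL_comm act act'' g gact, gρ]
      exact h''.semi _ p _ hx

end Ext

/-! ## Naturality of the coaction of presheaves of modules -/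

attribute [local instance] algS

section Nat

variable {A : NFᵒᵖ ⥤ CommRingCat.{u}}

theorem cP_nat (M N : PM.{u} A) (hM : M.Cart) (hN : N.Cart) (f : ∀ a : NF, M.obj a →ₗ[A.obj (op a)] N.obj a)
    (hf : ∀ {a b : NF} (φ : a ⟶ b) (m : M.obj b), f a (M.map φ m) = N.map φ (f b m))
    (y : (A.obj (op ⟨1⟩)) ⊗[A.obj (op ⟨0⟩)] M.obj ⟨0⟩) :
    cP N hN ((f ⟨0⟩).baseChange (A.obj (op ⟨1⟩)) y) = f ⟨1⟩ (cP M hM y) := by
  induction y using TensorProduct.induction_on with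
  | zero => simp
  | add y z hy hz => rw [map_add, map_add, hy, hz, map_add, map_add]
  | tmul a m =>
    rw [LinearMap.baseChange_tmul, cP_tmul, cP_tmul, map_smul]
    exact congrArg (fun w => a • w) (hf (pr ⟨0⟩) m).symm

theorem rhoP_nat (M N : PM.{u} A) (hM : M.Cart) (hN : N.Cart) (f : ∀ a : NF, M.obj a →ₗ[A.obj (op a)] N.obj a)
    (hf : ∀ {a b : NF} (φ : a ⟶ b) (m : M.obj b), f a (M.map φ m) = N.map φ (f b m)) (x : M.obj ⟨0⟩) :
    (f ⟨0⟩).baseChange (A.obj (op ⟨1⟩)) (rhoP M hM x) = rhoP N hN (f ⟨0⟩ x) := by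
  apply (cP N hN).injective
  rw [cP_nat M N hM hN f hf, cP_rhoP, cP_rhoP]
  exact hf (lst ⟨0⟩) x

end Nat

/-! ## The lift `e` -/

section Lift

variable {k : Type u} [CommRing k] {A : NFᵒᵖ ⥤ CommRingCat.{u}} [Arch.GRF k A] (Y : Arch.AffOver A)

theorem isBC_self {B C : Type u} [CommRing B] [CommRing C] (φ : B →+* C) : IsBC φ φ.toAddMonoidHom := by
  refine IsBC.of_lift (fun a m => φ.map_mul a m) fun Q _ _ g hg => ?_
  refine ⟨LinearMap.toSpanSingleton _ Q (g 1), fun m => ?_, fun g' hg' => ?_⟩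
  · have h1 := hg m 1
    rw [smul_eq_mul, mul_one] at h1
    exact h1.symm
  · ext
    rw [LinearMap.toSpanSingleton_apply, one_smul]
    have h2 : g' (φ 1) = g 1 := hg' 1
    rw [map_one] at h2
    exact h2

/-- `D⟨a⟩` is the base change of `D⟨b⟩` along `A⟨b⟩ → A⟨a⟩` -/
theorem isBC_D {a b : NF} (φ : a ⟶ b) : IsBC (rg A φ) (rg Y.D φ).toAddMonoidHom :=
  IsBC.of_po (Y.cart φ) (fun r m => Algebra.smul_def r m) (fun r m => Algebra.smul_def r m)
    (isBC_self (rg Y.D φ))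

variable {P : Type u} [CommRing P] [Algebra (A.obj (op ⟨0⟩)) P] (π : P →ₐ[A.obj (op ⟨0⟩)] Y.D.obj (op ⟨0⟩))

theorem exists_list (hπ : Function.Surjective π) (z : Y.D.obj (op ⟨1⟩)) : ∃ l : List (A.obj (op ⟨1⟩) × P),
    z = (l.map fun x => x.1 • rg Y.D (pr ⟨0⟩) (π x.2)).sum := by
  have hz : z ∈ Submodule.span (A.obj (op ⟨1⟩)) (Set.range (rg Y.D (pr ⟨0⟩)).toAddMonoidHom) := by
    rw [(isBC_D Y (pr ⟨0⟩)).span_range]
    trivial
  refine Submodule.span_induction (p := fun z _ => ∃ l : List (A.obj (op ⟨1⟩) × P),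
    z = (l.map fun x => x.1 • rg Y.D (pr ⟨0⟩) (π x.2)).sum) ?_ ?_ ?_ ?_ hz
  · rintro _ ⟨d, rfl⟩
    obtain ⟨p, rfl⟩ := hπ d
    refine ⟨[(1, p)], ?_⟩
    simp
  · exact ⟨[], rfl⟩
  · rintro _ _ _ _ ⟨l, rfl⟩ ⟨l', rfl⟩
    exact ⟨l ++ l', by rw [List.map_append, List.sum_append]⟩
  · rintro a _ _ ⟨l, rfl⟩
    refine ⟨l.map fun x => (a * x.1, x.2), ?_⟩
    rw [List.smul_sum, List.map_map, List.map_map]
    congr 1
    refine List.map_congr_left fun x _ => ?_
    simp only [Function.comp_apply, mul_smul]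

/-- a choice of `e p = ∑ γ ⊗ p'` with `D(lst) (π p) = ∑ γ • D(pr) (π p')` -/
theorem exists_lift (hπ : Function.Surjective π) : ∃ e : P → List (A.obj (op ⟨1⟩) × P),
    ∀ p, rg Y.D (lst ⟨0⟩) (π p) = ((e p).map fun x => x.1 • rg Y.D (pr ⟨0⟩) (π x.2)).sum :=
  ⟨fun p => (exists_list Y π hπ (rg Y.D (lst ⟨0⟩) (π p))).choose,
    fun p => (exists_list Y π hπ (rg Y.D (lst ⟨0⟩) (π p))).choose_spec⟩

end Lift

/-! ## Small objects -/

section Main

variable {k : Type u} [CommRing k] {A : NFᵒᵖ ⥤ CommRingCat.{u}} [Arch.GRF k A]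
  {x : PrimeSpectrum (A.obj (op ⟨0⟩))} (c : Arch.CoverDatum k A x) {E : Grp.Gp k} (ι : c.H.O →ₐc[k] E.O)
  {P : Type u} [CommRing P] [Algebra (A.obj (op ⟨0⟩)) P] (π : P →ₐ[A.obj (op ⟨0⟩)] c.Y.D.obj (op ⟨0⟩))

/-- the operators on the chart -/
def actS (X : Arch.SObj k A E P) : P → Module.End (A.obj (op ⟨0⟩)) (X.M.obj ⟨0⟩) :=
  fun q => Algebra.lsmul (A.obj (op ⟨0⟩)) (A.obj (op ⟨0⟩)) (X.M.obj ⟨0⟩) q

theorem actS_apply (X : Arch.SObj k A E P) (q : P) (m : X.M.obj ⟨0⟩) : actS X q m = q • m := rfl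

variable {c ι π} in
theorem sml_pure {X : Arch.SObj k A E P} (h : Arch.Pure c ι π X) (e : P → List (A.obj (op ⟨1⟩) × P))
    (he : ∀ p, rg c.Y.D (lst ⟨0⟩) (π p) = ((e p).map fun x => x.1 • rg c.Y.D (pr ⟨0⟩) (π x.2)).sum) :
    Sml {p | π p = 0} e (actS X) (rhoP X.M X.cart) 1 (fun i => if i = 0 then ⊥ else ⊤) := by
  letI m0 : Module (c.Y.D.obj (op ⟨0⟩)) (X.M.obj ⟨0⟩) := h.md ⟨0⟩
  letI m1 : Module (c.Y.D.obj (op ⟨1⟩)) (X.M.obj ⟨1⟩) := h.md ⟨1⟩
  have tow : ∀ (r : A.obj (op ⟨1⟩)) (m : X.M.obj ⟨1⟩),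
      (algebraMap (A.obj (op ⟨1⟩)) (c.Y.D.obj (op ⟨1⟩)) r) • m = r • m := h.tower ⟨1⟩
  have hpr : ∀ (d : c.Y.D.obj (op ⟨0⟩)) (m : X.M.obj ⟨0⟩),
      X.M.map (pr ⟨0⟩) (d • m) = (rg c.Y.D (pr ⟨0⟩) d) • X.M.map (pr ⟨0⟩) m := h.map_smul (pr ⟨0⟩)
  have hlst : ∀ (d : c.Y.D.obj (op ⟨0⟩)) (m : X.M.obj ⟨0⟩),
      X.M.map (lst ⟨0⟩) (d • m) = (rg c.Y.D (lst ⟨0⟩) d) • X.M.map (lst ⟨0⟩) m := h.map_smul (lst ⟨0⟩)
  have hact : ∀ (q : P) (m : X.M.obj ⟨0⟩), q • m = (π q) • m := h.act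
  have tow' : ∀ (r : A.obj (op ⟨1⟩)) (d : c.Y.D.obj (op ⟨1⟩)) (m : X.M.obj ⟨1⟩),
      (r • d) • m = r • (d • m) := fun r d m => by
    rw [Algebra.smul_def, mul_smul, tow]
  have key : ∀ (q : P) (y : (A.obj (op ⟨1⟩)) ⊗[A.obj (op ⟨0⟩)] X.M.obj ⟨0⟩),
      cP X.M X.cart ((actS X q).baseChange (A.obj (op ⟨1⟩)) y) =
        (rg c.Y.D (pr ⟨0⟩) (π q)) • cP X.M X.cart y := by
    intro q y
    induction y using TensorProduct.induction_on with
    | zero => rw [map_zero, map_zero, smul_zero]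
    | add y z hy hz => rw [map_add, map_add, hy, hz, map_add, smul_add]
    | tmul a m =>
      rw [LinearMap.baseChange_tmul, cP_tmul, cP_tmul, actS_apply, hact]
      rw [← tow a, ← tow a, smul_smul, mul_comm, mul_smul]
      exact congrArg (fun w => algebraMap (A.obj (op ⟨1⟩)) (c.Y.D.obj (op ⟨1⟩)) a • w) (hpr (π q) m)
  have key2 : ∀ (l : List (A.obj (op ⟨1⟩) × P)) (y : (A.obj (op ⟨1⟩)) ⊗[A.obj (op ⟨0⟩)] X.M.obj ⟨0⟩),
      cP X.M X.cart (actL (actS X) l y) =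
        (l.map fun x => x.1 • rg c.Y.D (pr ⟨0⟩) (π x.2)).sum • cP X.M X.cart y := by
    intro l y
    induction l with
    | nil => rw [actL_nil, map_zero, List.map_nil, List.sum_nil, zero_smul]
    | cons z l ih => rw [actL_cons, map_add, ih, map_smul, key, List.map_cons, List.sum_cons, add_smul, tow']
  have sm : ∀ (q : P) (m : X.M.obj ⟨0⟩),
      rhoP X.M X.cart (actS X q m) = actL (actS X) (e q) (rhoP X.M X.cart m) := by
    intro q m
    apply (cP X.M X.cart).injective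
    rw [key2, cP_rhoP, cP_rhoP, actS_apply, hact, ← he]
    exact hlst (π q) m
  refine ⟨if_pos rfl, if_neg one_ne_zero, ?_, ?_, ?_, ?_, ?_⟩
  · refine monotone_nat_of_le_succ fun i => ?_
    rw [if_neg (Nat.succ_ne_zero i)]
    exact le_top
  · intro i p m hm
    rcases Nat.eq_zero_or_pos i with rfl | hi
    · rw [if_pos rfl, Submodule.mem_bot] at hm ⊢
      rw [hm, map_zero]
    · rw [if_neg hi.ne']
      trivial
  · intro i m hm
    rcases Nat.eq_zero_or_pos i with rfl | hi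
    · rw [if_pos rfl, Submodule.mem_bot] at hm
      rw [hm, map_zero]
      exact zero_mem _
    · rw [if_neg hi.ne', Submodule.baseChange_top]
      trivial
  · intro i p m hp _
    rw [actS_apply, hact, show π p = 0 from hp, zero_smul]
    exact zero_mem _
  · intro i p m _
    rw [sm, sub_self]
    exact zero_mem _

/-- **small objects are small in the sense of K907** -/
theorem exists_sml (e : P → List (A.obj (op ⟨1⟩) × P))
    (he : ∀ p, rg c.Y.D (lst ⟨0⟩) (π p) = ((e p).map fun x => x.1 • rg c.Y.D (pr ⟨0⟩) (π x.2)).sum)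
    (X : Arch.SObj k A E P) (h : Arch.Small c ι π X) :
    ∃ (n : ℕ) (S : ℕ → Submodule (A.obj (op ⟨0⟩)) (X.M.obj ⟨0⟩)),
      Sml {p | π p = 0} e (actS X) (rhoP X.M X.cart) n S := by
  haveI : Module.Flat (A.obj (op ⟨0⟩)) (A.obj (op ⟨1⟩)) := flat_algS (Arch.GRF.gr k (A := A))
  induction h with
  | zero X hX => exact ⟨0, _, sml_of_subsingleton _ _⟩
  | pure X hX =>
    obtain ⟨hX⟩ := hX
    exact ⟨1, _, sml_pure hX e he⟩
  | ext X' X X'' i q hi hiq hq _ _ ih' ih'' =>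
    obtain ⟨n', S', h'⟩ := ih'
    obtain ⟨n'', S'', h''⟩ := ih''
    exact ⟨n' + n'', _, sml_ext h' h'' _ _ (i.f ⟨0⟩) (q.f ⟨0⟩) hiq (fun p m => i.pl p m)
      (fun m => rhoP_nat X'.M X.M X'.cart X.cart i.f (fun φ m => i.nat φ m) m) (fun p m => q.pl p m)
      (fun m => rhoP_nat X.M X''.M X.cart X''.cart q.f (fun φ m => q.nat φ m) m)⟩

/-- all terms of a kernel datum, with one `e` and one length -/
theorem exists_sml_kernel {c : Arch.CoverDatum k A x} (K : Arch.KernelDatum c) :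
    ∃ (e : K.P → List (A.obj (op ⟨1⟩) × K.P)) (n : ℕ) (S : ∀ q : ℤ, ℕ → Submodule (A.obj (op ⟨0⟩)) ((K.K q).M.obj ⟨0⟩)),
      (∀ p, rg c.Y.D (lst ⟨0⟩) (K.π p) = ((e p).map fun x => x.1 • rg c.Y.D (pr ⟨0⟩) (K.π x.2)).sum) ∧
      ∀ q : ℤ, Sml {p | K.π p = 0} e (actS (K.K q)) (rhoP (K.K q).M (K.K q).cart) n (S q) := by
  obtain ⟨e, he⟩ := exists_lift c.Y K.π K.π_surj
  have h1 : ∀ q : ℤ, ∃ (n : ℕ) (S : ℕ → Submodule (A.obj (op ⟨0⟩)) ((K.K q).M.obj ⟨0⟩)),
      (q < -K.e ∨ 0 < q → n = 0) ∧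
      Sml {p | K.π p = 0} e (actS (K.K q)) (rhoP (K.K q).M (K.K q).cart) n S := by
    intro q
    by_cases hq : q < -K.e ∨ 0 < q
    · haveI := K.bdd q hq
      exact ⟨0, _, fun _ => rfl, sml_of_subsingleton _ _⟩
    · obtain ⟨n, S, h⟩ := exists_sml c K.ι K.π e he (K.K q) (K.small q)
      exact ⟨n, S, fun h => absurd h hq, h⟩
  choose n S hn hS using h1
  refine ⟨e, ∑ i ∈ Finset.Icc (-(K.e : ℤ)) 0, n i, S, he, fun q => sml_mono (hS q) ?_⟩
  by_cases hq : q < -K.e ∨ 0 < q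
  · rw [hn q hq]
    exact Nat.zero_le _
  · push Not at hq
    exact Finset.single_le_sum (f := n) (fun i _ => Nat.zero_le _) (Finset.mem_Icc.2 hq)

end Main

end Groth.Agent.ResProp.EF.K777
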