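import Groth.Agent.ResProp.EF.K777.Model
import Groth.Agent.ResProp.EF.K566.Out

/-!
# From `Sml` (K907) to `GFil` (K566)

`toT l : P →₀ Γ` of a list `l : List (Γ × P)`; `opx_cP : opx (toT l) (cP y) = cP (actL l y)`;
`gfil_of_sml : Sml {p | π p = 0} e act (coaction) n S → GFil Y π X n (fun i => S (n - i))`.
-/

set_option autoImplicit false
set_option linter.dupNamespace false
set_option linter.style.haveILetI false

open CategoryTheory CategoryTheory.Limits Opposite TensorProduct

noncomputable section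

namespace Groth.Agent.ResProp.EF.K777

open EF56 K784.BC K784.PM K741.RP Groth.Agent.ResProp.EF.K907 K566
open K409 (up valx opx)

universe u

attribute [local instance] algS

variable {A : NFᵒᵖ ⥤ CommRingCat.{u}} {P : Type u}

/-- the formal combination of a list -/
def toT {B : Type u} [CommRing B] (l : List (B × P)) : P →₀ B :=
  (l.map fun x => Finsupp.single x.2 x.1).sum

theorem toT_nil {B : Type u} [CommRing B] : toT (P := P) ([] : List (B × P)) = 0 := rfl

theorem toT_cons {B : Type u} [CommRing B] (x : B × P) (l : List (B × P)) :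
    toT (x :: l) = Finsupp.single x.2 x.1 + toT l := by
  rw [toT, List.map_cons, List.sum_cons, toT]

/-- the value of the combination of a list -/
theorem valx_toT {D : NFᵒᵖ ⥤ CommRingCat.{u}} (j : A ⟶ D) (σ : P → D.obj (op ⟨0⟩)) (l : List (A.obj (op ⟨1⟩) × P)) :
    valx j σ (toT l) = (l.map fun x => (j.app (op ⟨1⟩)).hom x.1 * rg D (pr ⟨0⟩) (σ x.2)).sum := by
  induction l with
  | nil =>
    rw [toT_nil, K409.valx, Finsupp.sum_zero_index]
    rfl
  | cons x l ih =>
    rw [toT_cons, List.map_cons, List.sum_cons, ← ih, K409.valx, K409.valx, Finsupp.sum_add_index']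
    · rw [Finsupp.sum_single_index]
      rw [map_zero, zero_mul]
    · intro q
      rw [map_zero, zero_mul]
    · intro q r r'
      rw [map_add, add_mul]

variable {M : PM.{u} A} (hM : M.Cart) (ρ : P → (M.obj ⟨0⟩ →ₗ[A.obj (op ⟨0⟩)] M.obj ⟨0⟩))

theorem opx_zero (x : M.obj ⟨1⟩) : opx hM ρ 0 x = 0 := by
  rw [K409.opx_apply, Finsupp.sum_zero_index]

theorem opx_add (t t' : P →₀ A.obj (op ⟨1⟩)) (x : M.obj ⟨1⟩) : opx hM ρ (t + t') x = opx hM ρ t x + opx hM ρ t' x := by
  rw [K409.opx_apply, K409.opx_apply, K409.opx_apply, Finsupp.sum_add_index']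
  · intro q
    rw [zero_smul]
  · intro q r r'
    rw [add_smul]

theorem opx_single (q : P) (r : A.obj (op ⟨1⟩)) (x : M.obj ⟨1⟩) :
    opx hM ρ (Finsupp.single q r) x = r • PM.pl (M := M) hM (pr ⟨0⟩) (ρ q) x := by
  rw [K409.opx_apply, Finsupp.sum_single_index]
  rw [zero_smul]

theorem pl_cP (f : M.obj ⟨0⟩ →ₗ[A.obj (op ⟨0⟩)] M.obj ⟨0⟩) (y : (A.obj (op ⟨1⟩)) ⊗[A.obj (op ⟨0⟩)] M.obj ⟨0⟩) :
    PM.pl (M := M) hM (pr ⟨0⟩) f (cP M hM y) = cP M hM (f.baseChange (A.obj (op ⟨1⟩)) y) := by
  induction y using TensorProduct.induction_on with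
  | zero => rw [map_zero, map_zero, map_zero, map_zero]
  | add y z hy hz => rw [map_add, map_add, hy, hz, map_add, map_add]
  | tmul a m => rw [LinearMap.baseChange_tmul, cP_tmul, cP_tmul, map_smul, PM.pl_apply]

/-- `opx` in terms of `actL` -/
theorem opx_cP (l : List (A.obj (op ⟨1⟩) × P)) (y : (A.obj (op ⟨1⟩)) ⊗[A.obj (op ⟨0⟩)] M.obj ⟨0⟩) :
    opx hM ρ (toT l) (cP M hM y) = cP M hM (actL ρ l y) := by
  induction l with
  | nil => rw [toT_nil, opx_zero, actL_nil, map_zero]
  | cons x l ih => rw [toT_cons, opx_add, ih, opx_single, actL_cons, map_add, map_smul, pl_cP]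

section Main

variable (Y : Arch.AffOver A) {P : Type u} [CommRing P] [Algebra (A.obj (op ⟨0⟩)) P]
  (π : P →ₐ[A.obj (op ⟨0⟩)] Y.D.obj (op ⟨0⟩))

theorem valx_lift (l : List (A.obj (op ⟨1⟩) × P)) :
    valx Y.j π (toT l) = (l.map fun x => x.1 • rg Y.D (pr ⟨0⟩) (π x.2)).sum :=
  valx_toT Y.j π l

variable {Y π}

/-- **(OUT)** smallness in the sense of K907 gives the filtration of K566 -/
theorem gfil_of_sml {X : GObj A P} {e : P → List (A.obj (op ⟨1⟩) × P)}
    (he : ∀ p, rg Y.D (lst ⟨0⟩) (π p) = ((e p).map fun x => x.1 • rg Y.D (pr ⟨0⟩) (π x.2)).sum)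
    {n : ℕ} {S : ℕ → Submodule (A.obj (op ⟨0⟩)) (X.M.obj ⟨0⟩)}
    (h : Sml {p | π p = 0} e (fun q => X.act q) (rhoP X.M X.cart) n S) :
    GFil Y π X n (fun i => S (n - i)) where
  zero := h.top
  last := by
    change S (n - n) = ⊥
    rw [Nat.sub_self]
    exact h.bot
  anti i := h.mono (by omega)
  pstab i q x hx := h.act_mem (n - i) q x hx
  gstab i x hx := by
    have h1 := h.ρ_mem (n - i) x hx
    rw [mem_baseChange_iff X.M X.cart, cP_rhoP] at h1
    exact h1
  ker i q hq x hx := by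
    change x ∈ S (n - i) at hx
    change q • x ∈ S (n - (i + 1))
    by_cases hi : i < n
    · have e1 : n - i = (n - (i + 1)) + 1 := by omega
      rw [e1] at hx
      exact h.ker_mem (n - (i + 1)) q x hq hx
    · have e1 : n - i = 0 := by omega
      rw [e1, h.bot, Submodule.mem_bot] at hx
      rw [hx, smul_zero]
      exact zero_mem _
  semi i q := by
    refine ⟨toT (e q), by rw [valx_lift, he], fun x hx => ?_⟩
    change x ∈ S (n - i) at hx
    change _ ∈ up X.M (S (n - (i + 1)))
    by_cases hi : i < n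
    · have e1 : n - i = (n - (i + 1)) + 1 := by omega
      rw [e1] at hx
      have h1 := h.semi (n - (i + 1)) q x hx
      rw [mem_baseChange_iff X.M X.cart, map_sub, cP_rhoP] at h1
      have h2 : cP X.M X.cart (actL (fun q => X.act q) (e q) (rhoP X.M X.cart x)) =
          opx X.cart X.act (toT (e q)) (X.M.map (lst ⟨0⟩) x) := by
        rw [← cP_rhoP X.M X.cart, opx_cP]
      rw [h2] at h1
      exact h1
    · have e1 : n - i = 0 := by omega
      rw [e1, h.bot, Submodule.mem_bot] at hx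
      rw [hx, smul_zero, map_zero, map_zero, sub_self]
      exact zero_mem _

end Main

end Groth.Agent.ResProp.EF.K777
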