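import Groth.Agent.ResProp.EF.K777.SmlHom

/-!
# The terms of the tensor product of a complex with a termwise small complex are small

`coT λ ρ : L ⊗ K ⟶ Fn (L ⊗ K)`, `actT p = 1 ⊗ act p`; `sml_tens` : if all `K.X q` are small of length `n`, so are the
terms of `L ⊗ K`, for any complex `L` and any morphism `λ : L ⟶ Fn L`.
-/

set_option autoImplicit false

universe w u

open CategoryTheory CategoryTheory.Limits MonoidalCategory HomologicalComplex TensorProduct

noncomputable section

namespace Groth.Agent.ResProp.EF.K777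

open Groth.Agent.ResProp.EF.K907 Groth.Agent.PerfB.RingKFlat

section ActL

variable {R : Type*} [CommRing R] {Γ : Type*} [CommRing Γ] [Algebra R Γ] {P : Type*}
variable {M : Type*} [AddCommGroup M] [Module R M]

theorem actL_smul (act : P → Module.End R M) (l : List (Γ × P)) (c : Γ) (y : Γ ⊗[R] M) :
    actL act l (c • y) = c • actL act l y := by
  induction l with
  | nil => rw [actL_nil, actL_nil, smul_zero]
  | cons x l ih => rw [actL_cons, actL_cons, ih, map_smul, smul_add, smul_comm]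

end ActL

variable {R Γ : Type u} [CommRing R] [CommRing Γ] [Algebra R Γ] (t : R →+* Γ)

local notation "upZ" => ComplexShape.up ℤ

variable (L K : CochainComplex (ModuleCat.{u} R) ℤ)
  (lam : L ⟶ ((Fn (Γ := Γ) t).mapHomologicalComplex upZ).obj L)
  (ρ : K ⟶ ((Fn (Γ := Γ) t).mapHomologicalComplex upZ).obj K)

/-- the coaction on `L ⊗ K` -/
def coT : mapBifunctor L K (TR R) upZ ⟶
    ((Fn (Γ := Γ) t).mapHomologicalComplex upZ).obj (mapBifunctor L K (TR R) upZ) :=
  mapBifunctorMap lam ρ (TR R) upZ ≫ Lax.compHom (laxF t) L K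

theorem coT_ι (p q n : ℤ) (h : p + q = n) (l : L.X p) (k : K.X q) :
    ((coT t L K lam ρ).f n).hom ((ιMapBifunctor L K (TR R) upZ p q n h).hom (l ⊗ₜ[R] k)) =
      (ιMapBifunctor L K (TR R) upZ p q n h).hom.baseChange Γ
        (mul₀ (Γ := Γ) (L.X p) (K.X q) ((lam.f p).hom l) ((ρ.f q).hom k)) := by
  have h1 : ιMapBifunctor L K (TR R) upZ p q n h ≫ (coT t L K lam ρ).f n =
      ((TR R).map (lam.f p)).app (K.X q) ≫ ((TR R).obj _).map (ρ.f q) ≫ μ t (L.X p) (K.X q) ≫
        (Fn (Γ := Γ) t).map (ιMapBifunctor L K (TR R) upZ p q n h) := by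
    change ιMapBifunctor L K (TR R) upZ p q n h ≫ (mapBifunctorMap lam ρ (TR R) upZ).f n ≫ Lax.comp (laxF t) L K n = _
    rw [ι_mapBifunctorMap_assoc]
    congr 2
    exact Lax.ι_comp (laxF t) L K p q n h
  exact congrArg (fun f => f.hom (l ⊗ₜ[R] k)) h1

/-- the coaction in degree `n`, as an additive map -/
def coTn (n : ℤ) : (mapBifunctor L K (TR R) upZ).X n →+ Γ ⊗[R] (mapBifunctor L K (TR R) upZ).X n :=
  ((coT t L K lam ρ).f n).hom.toAddMonoidHom

/-- the coaction of a complex in degree `q`, as an additive map -/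
def coA {t : R →+* Γ} {K : CochainComplex (ModuleCat.{u} R) ℤ}
    (ρ : K ⟶ ((Fn (Γ := Γ) t).mapHomologicalComplex upZ).obj K) (q : ℤ) : K.X q →+ Γ ⊗[R] K.X q :=
  (ρ.f q).hom.toAddMonoidHom

theorem coTn_ι (p q n : ℤ) (h : p + q = n) (l : L.X p) (k : K.X q) :
    coTn t L K lam ρ n ((ιMapBifunctor L K (TR R) upZ p q n h).hom (l ⊗ₜ[R] k)) =
      (ιMapBifunctor L K (TR R) upZ p q n h).hom.baseChange Γ
        (mul₀ (Γ := Γ) (L.X p) (K.X q) (coA lam p l) (coA ρ q k)) :=
  coT_ι t L K lam ρ p q n h l k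

theorem coTn_smul (n : ℤ) (c : R) (y : (mapBifunctor L K (TR R) upZ).X n) :
    coTn t L K lam ρ n (c • y) = t c • coTn t L K lam ρ n y :=
  ((coT t L K lam ρ).f n).hom.map_smul c y

variable {P : Type*} (act : P → (K ⟶ K))

/-- the operators on `L ⊗ K` -/
def actT (p : P) : mapBifunctor L K (TR R) upZ ⟶ mapBifunctor L K (TR R) upZ :=
  mapBifunctorMap (𝟙 L) (act p) (TR R) upZ

/-- the operator in degree `n` -/
abbrev actTn (n : ℤ) (x : P) : Module.End R ((mapBifunctor L K (TR R) upZ).X n) := ((actT L K act x).f n).hom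

theorem actT_ι (x : P) (p q n : ℤ) (h : p + q = n) (w : (L.X p) ⊗[R] (K.X q)) :
    actTn L K act n x ((ιMapBifunctor L K (TR R) upZ p q n h).hom w) =
      (ιMapBifunctor L K (TR R) upZ p q n h).hom ((((act x).f q).hom.lTensor (L.X p)) w) := by
  have h1 : ιMapBifunctor L K (TR R) upZ p q n h ≫ (actT L K act x).f n =
      ((TR R).obj (L.X p)).map ((act x).f q) ≫ ιMapBifunctor L K (TR R) upZ p q n h := by
    rw [actT, ι_mapBifunctorMap, id_f, CategoryTheory.Functor.map_id, NatTrans.id_app, Category.id_comp]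
  exact congrArg (fun f => f.hom w) h1

theorem actT_ι_bc (x : P) (p q n : ℤ) (h : p + q = n) (z : Γ ⊗[R] (L.X p)) (y : Γ ⊗[R] (K.X q)) :
    (actTn L K act n x).baseChange Γ ((ιMapBifunctor L K (TR R) upZ p q n h).hom.baseChange Γ
      (mul₀ (Γ := Γ) (L.X p) (K.X q) z y)) =
    (ιMapBifunctor L K (TR R) upZ p q n h).hom.baseChange Γ
      (mul₀ (Γ := Γ) (L.X p) (K.X q) z (((act x).f q).hom.baseChange Γ y)) := by
  rw [mul₀_map₂]
  have h1 : actTn L K act n x ∘ₗ (ιMapBifunctor L K (TR R) upZ p q n h).hom =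
      (ιMapBifunctor L K (TR R) upZ p q n h).hom ∘ₗ (((act x).f q).hom.lTensor (L.X p)) :=
    LinearMap.ext fun w => actT_ι L K act x p q n h w
  have h2 := congrArg (LinearMap.baseChange Γ) h1
  rw [LinearMap.baseChange_comp, LinearMap.baseChange_comp] at h2
  exact LinearMap.congr_fun h2 _

theorem actL_ι (l : List (Γ × P)) (p q n : ℤ) (h : p + q = n) (z : Γ ⊗[R] (L.X p)) (y : Γ ⊗[R] (K.X q)) :
    actL (actTn L K act n) l ((ιMapBifunctor L K (TR R) upZ p q n h).hom.baseChange Γ
      (mul₀ (Γ := Γ) (L.X p) (K.X q) z y)) =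
    (ιMapBifunctor L K (TR R) upZ p q n h).hom.baseChange Γ
      (mul₀ (Γ := Γ) (L.X p) (K.X q) z (actL (fun x => ((act x).f q).hom) l y)) := by
  induction l with
  | nil => rw [actL_nil, actL_nil, map_zero, map_zero]
  | cons x l ih => rw [actL_cons, actL_cons, ih, map_add, map_add, actT_ι_bc, map_smul, map_smul]

section Fil

variable (S : ∀ q : ℤ, Submodule R (K.X q)) (n : ℤ)

/-- the submodule of `(L ⊗ K)^n` generated by the `L^p ⊗ S_q` -/
def tS : Submodule R ((mapBifunctor L K (TR R) upZ).X n) :=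
  Submodule.span R {x | ∃ (p q : ℤ) (h : p + q = n) (l : L.X p) (k : K.X q), k ∈ S q ∧
    x = (ιMapBifunctor L K (TR R) upZ p q n h).hom (l ⊗ₜ[R] k)}

theorem ι_mem_tS (p q : ℤ) (h : p + q = n) (l : L.X p) (k : K.X q) (hk : k ∈ S q) :
    (ιMapBifunctor L K (TR R) upZ p q n h).hom (l ⊗ₜ[R] k) ∈ tS L K S n :=
  Submodule.subset_span ⟨p, q, h, l, k, hk, rfl⟩

theorem tS_mono {S S' : ∀ q : ℤ, Submodule R (K.X q)} (h : ∀ q, S q ≤ S' q) : tS L K S n ≤ tS L K S' n := by
  refine Submodule.span_mono ?_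
  rintro x ⟨p, q, hpq, l, k, hk, rfl⟩
  exact ⟨p, q, hpq, l, k, h q hk, rfl⟩

theorem tS_bot : tS L K (fun _ => ⊥) n = ⊥ := by
  rw [tS, Submodule.span_eq_bot]
  rintro x ⟨p, q, hpq, l, k, hk, rfl⟩
  rw [Submodule.mem_bot] at hk
  subst hk
  rw [TensorProduct.tmul_zero, map_zero]

theorem tS_top : tS L K (fun _ => ⊤) n = ⊤ := by
  have h0 : ModuleCat.ofHom (tS L K (fun _ => ⊤) n).mkQ = 0 := by
    apply mapBifunctor.hom_ext
    intro p q h
    rw [comp_zero]
    refine ModuleCat.MonoidalCategory.tensor_ext (M₁ := L.X p) (M₂ := K.X q) (fun l k => ?_)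
    exact (Submodule.Quotient.mk_eq_zero _).2 (ι_mem_tS L K (fun _ => ⊤) n p q h l k trivial)
  rw [eq_top_iff]
  rintro x -
  exact (Submodule.Quotient.mk_eq_zero _).1 (congrArg (fun f => f.hom x) h0)

theorem ι_bc_mem_tS (p q : ℤ) (h : p + q = n) (z : Γ ⊗[R] (L.X p)) (y : Γ ⊗[R] (K.X q))
    (hy : y ∈ (S q).baseChange Γ) :
    (ιMapBifunctor L K (TR R) upZ p q n h).hom.baseChange Γ (mul₀ (Γ := Γ) (L.X p) (K.X q) z y) ∈
      (tS L K S n).baseChange Γ := by
  rw [Submodule.baseChange_eq_span] at hy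
  induction hy using Submodule.span_induction with
  | zero => rw [map_zero, map_zero]; exact zero_mem _
  | add y y' _ _ hy hy' => rw [map_add, map_add]; exact add_mem hy hy'
  | smul c y _ hy => rw [map_smul, map_smul]; exact Submodule.smul_mem _ _ hy
  | mem y hy =>
    obtain ⟨k, hk, rfl⟩ := hy
    change (ιMapBifunctor L K (TR R) upZ p q n h).hom.baseChange Γ
      (mul₀ (Γ := Γ) (L.X p) (K.X q) z ((1 : Γ) ⊗ₜ[R] k)) ∈ _
    induction z using TensorProduct.induction_on with
    | zero => rw [map_zero, LinearMap.zero_apply, map_zero]; exact zero_mem _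
    | add z z' hz hz' => rw [map_add, LinearMap.add_apply, map_add]; exact add_mem hz hz'
    | tmul a l =>
      rw [mul₀_tmul, LinearMap.baseChange_tmul]
      exact Submodule.tmul_mem_baseChange_of_mem _ (ι_mem_tS L K S n p q h l k hk)

variable {I : Set P} {e : P → List (Γ × P)}

/-- **the terms of `L ⊗ K` are small** -/
theorem sml_tens {m : ℕ} (S : ∀ q : ℤ, ℕ → Submodule R (K.X q))
    (hS : ∀ q, Sml I e (fun x => ((act x).f q).hom) (coA ρ q) m (S q)) (n : ℤ) :
    Sml I e (actTn L K act n) (coTn t L K lam ρ n) m (fun i => tS L K (fun q => S q i) n) where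
  bot := by
    have : (fun q => S q 0) = fun _ => ⊥ := funext fun q => (hS q).bot
    rw [this, tS_bot]
  top := by
    have : (fun q => S q m) = fun _ => ⊤ := funext fun q => (hS q).top
    rw [this, tS_top]
  mono i j hij := tS_mono L K n fun q => (hS q).mono hij
  act_mem i x w hw := by
    induction hw using Submodule.span_induction with
    | zero => rw [map_zero]; exact zero_mem _
    | add y y' _ _ hy hy' => rw [map_add]; exact add_mem hy hy'
    | smul c y _ hy => rw [map_smul]; exact Submodule.smul_mem _ _ hy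
    | mem y hy =>
      obtain ⟨p, q, h, l, k, hk, rfl⟩ := hy
      rw [actT_ι, LinearMap.lTensor_tmul]
      exact ι_mem_tS L K (fun q => S q i) n p q h l _ ((hS q).act_mem i x k hk)
  ρ_mem i w hw := by
    induction hw using Submodule.span_induction with
    | zero => rw [map_zero]; exact zero_mem _
    | add y y' _ _ hy hy' => rw [map_add]; exact add_mem hy hy'
    | smul c y _ hy => rw [coTn_smul]; exact Submodule.smul_mem _ _ hy
    | mem y hy =>
      obtain ⟨p, q, h, l, k, hk, rfl⟩ := hy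
      rw [coTn_ι]
      exact ι_bc_mem_tS L K (fun q => S q i) n p q h _ _ ((hS q).ρ_mem i k hk)
  ker_mem i x w hx hw := by
    induction hw using Submodule.span_induction with
    | zero => rw [map_zero]; exact zero_mem _
    | add y y' _ _ hy hy' => rw [map_add]; exact add_mem hy hy'
    | smul c y _ hy => rw [map_smul]; exact Submodule.smul_mem _ _ hy
    | mem y hy =>
      obtain ⟨p, q, h, l, k, hk, rfl⟩ := hy
      rw [actT_ι, LinearMap.lTensor_tmul]
      exact ι_mem_tS L K (fun q => S q i) n p q h l _ ((hS q).ker_mem i x k hx hk)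
  semi i x w hw := by
    induction hw using Submodule.span_induction with
    | zero => rw [map_zero, map_zero, actL_zero, sub_zero]; exact zero_mem _
    | add y y' _ _ hy hy' => rw [map_add, map_add, map_add, actL_add, add_sub_add_comm]; exact add_mem hy hy'
    | smul c y _ hy =>
      rw [map_smul, coTn_smul, coTn_smul, actL_smul]
      have h2 := Submodule.smul_mem ((tS L K (fun q => S q i) n).baseChange Γ) (t c) hy
      exact (smul_sub (t c) (coTn t L K lam ρ n (actTn L K act n x y))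
        (actL (actTn L K act n) (e x) (coTn t L K lam ρ n y))) ▸ h2
    | mem y hy =>
      obtain ⟨p, q, h, l, k, hk, rfl⟩ := hy
      have h1 : coTn t L K lam ρ n (actTn L K act n x ((ιMapBifunctor L K (TR R) upZ p q n h).hom (l ⊗ₜ[R] k))) -
          actL (actTn L K act n) (e x) (coTn t L K lam ρ n ((ιMapBifunctor L K (TR R) upZ p q n h).hom (l ⊗ₜ[R] k))) =
          (ιMapBifunctor L K (TR R) upZ p q n h).hom.baseChange Γ
            (mul₀ (Γ := Γ) (L.X p) (K.X q) (coA lam p l)
              (coA ρ q (((act x).f q).hom k) - actL (fun x => ((act x).f q).hom) (e x) (coA ρ q k))) := by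
        rw [actT_ι, LinearMap.lTensor_tmul, coTn_ι, coTn_ι, actL_ι, map_sub, map_sub]
      rw [h1]
      exact ι_bc_mem_tS L K (fun q => S q i) n p q h _ _ ((hS q).semi i x k hk)

end Fil

section Nat

variable {L K} {L' K' : CochainComplex (ModuleCat.{u} R) ℤ}
  (lam' : L' ⟶ ((Fn (Γ := Γ) t).mapHomologicalComplex upZ).obj L')
  (ρ' : K' ⟶ ((Fn (Γ := Γ) t).mapHomologicalComplex upZ).obj K')

/-- naturality of the coaction on `L ⊗ K` -/
theorem coT_nat (f : L ⟶ L') (g : K ⟶ K')
    (hf : lam ≫ ((Fn (Γ := Γ) t).mapHomologicalComplex upZ).map f = f ≫ lam')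
    (hg : ρ ≫ ((Fn (Γ := Γ) t).mapHomologicalComplex upZ).map g = g ≫ ρ') :
    coT t L K lam ρ ≫ ((Fn (Γ := Γ) t).mapHomologicalComplex upZ).map (mapBifunctorMap f g (TR R) upZ) =
      mapBifunctorMap f g (TR R) upZ ≫ coT t L' K' lam' ρ' := by
  have h1 : ∀ {A A' A'' B B' B'' : CochainComplex (ModuleCat.{u} R) ℤ} (a : A ⟶ A') (a' : A' ⟶ A'') (b : B ⟶ B')
      (b' : B' ⟶ B''), mapBifunctorMap a b (TR R) upZ ≫ mapBifunctorMap a' b' (TR R) upZ =
        mapBifunctorMap (a ≫ a') (b ≫ b') (TR R) upZ := by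
    intro A A' A'' B B' B'' a a' b b'
    ext n : 1
    apply mapBifunctor.hom_ext
    intro p q h
    rw [comp_f, ι_mapBifunctorMap_assoc, ι_mapBifunctorMap, ι_mapBifunctorMap, comp_f, comp_f, Functor.map_comp,
      Functor.map_comp, NatTrans.comp_app, Category.assoc, Category.assoc, NatTrans.naturality_assoc]
  rw [coT, coT, Category.assoc, ← Lax.compHom_naturality, ← Category.assoc, ← Category.assoc, h1, h1, hf, hg]

end Nat

section Homology

variable {L K} {act} {I : Set P} {e : P → List (Γ × P)}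

/-- **the homology of `L ⊗ K` is small** -/
theorem sml_homology_tens [Module.Flat R Γ] {m : ℕ} (S : ∀ q : ℤ, ℕ → Submodule R (K.X q))
    (hS : ∀ q, Sml I e (fun x => ((act x).f q).hom) (coA ρ q) m (S q)) (j : ℤ) :
    ∃ S' : ℕ → Submodule R ((mapBifunctor L K (TR R) upZ).homology j),
      Sml I e (actH (mapBifunctor L K (TR R) upZ) (actT L K act) j)
        (rhoHA t (mapBifunctor L K (TR R) upZ) (coT t L K lam ρ) j) m S' :=
  sml_homology t (mapBifunctor L K (TR R) upZ) (actT L K act) (coT t L K lam ρ) j m _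
    (sml_tens t L K lam ρ act S hS j)

end Homology

end Groth.Agent.ResProp.EF.K777
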